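import Cfsg.Agent.SzSq.K2
import Cfsg.Agent.FG.PrimeGraph

/-! Groups whose element orders are element orders of `J₁ × J₁` (`Jo`), mapping onto a group with the data `JD` of `J₁`
with solvable kernel. -/

set_option autoImplicit false
set_option linter.unusedSectionVars false
set_option linter.unusedVariables false

namespace Cfsg.Agent.JJ
open Subgroup Cfsg.Agent.BG Cfsg.Agent.Sig Cfsg.Agent.SzSq
open scoped commutatorElement

universe u

abbrev Bad (n : ℕ) : Prop := ∀ a ∈ [6, 10, 15, 7, 11, 19], ∀ b ∈ [6, 10, 15, 7, 11, 19], ¬ n ∣ Nat.lcm a b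
abbrev B3 (p q r : ℕ) : Prop := p.Coprime q ∧ (p * q).Coprime r ∧ Bad (p * q * r)
abbrev Big (s : ℕ) : Prop := s = 7 ∨ s = 11 ∨ s = 19

def Jo (G : Type*) [Group G] : Prop := ∀ g : G, ¬ Bad (orderOf g)

def Act (p : ℕ) (S : Type*) [Group S] : Prop := ∃ (q : ℕ) (Q : Subgroup S) (y : S), q.Prime ∧ q ≠ p ∧ PiGrp {q} Q ∧
  orderOf y = p ∧ y ∈ N[Q] ∧ y ∉ C[Q]

structure JD (S : Type*) [Group S] : Prop where
  simple : IsSimpleGroup S
  card : Nat.card S = 175560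
  ord : ∀ g : S, ∃ n ∈ [6, 10, 15, 7, 11, 19], orderOf g ∣ n
  act : ∀ p, p = 2 ∨ p = 3 ∨ p = 5 → Act p S
  bor : ∃ (E : Subgroup S) (t : S), PiGrp {2} E ∧ orderOf t = 7 ∧ t ∈ N[E] ∧ t ∉ C[E]
  cls : ∀ s t : S, orderOf s = 2 → orderOf t = 2 → IsConj s t

variable {G S Γ : Type*} [Group G] [Finite G] [Group S] [Finite S] [Group Γ] {a b c g u x z : G}
  {n p q r s : ℕ} {A B C E J K Q W W' : Subgroup G} {f : G →* S}

omit [Finite G] in
theorem Jo.no (O : Jo G) (h : Bad n) (d : n ∣ orderOf g) : False := O g fun a ha b hb e => h a ha b hb (d.trans e)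

omit [Finite G] in
theorem Jo.inj (h : Jo G) (f : Γ →* G) (hf : Function.Injective f) : Jo Γ := fun g => orderOf_injective f hf g ▸ h (f g)

omit [Finite G] in
theorem Jo.sub (h : Jo G) (K : Subgroup G) : Jo K := h.inj K.subtype K.subtype_injective

omit [Finite G] in
theorem Jo.surj (h : Jo G) (f : G →* Γ) (hf : Function.Surjective f) : Jo Γ := fun g e => by
  obtain ⟨g, rfl⟩ := hf g
  exact h.no e (orderOf_map_dvd f g)

theorem Jo.exp (O : Jo G) (g : G) : orderOf g ∣ 43890 := by_contra fun h => O g fun a ha b hb e => h (e.trans (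
  (by decide : ∀ a ∈ [6, 10, 15, 7, 11, 19], ∀ b ∈ [6, 10, 15, 7, 11, 19], Nat.lcm a b ∣ 43890) a ha b hb))

theorem prs (hp : p.Prime) (d : p ∣ 43890) : (p = 2 ∨ p = 3 ∨ p = 5) ∨ Big p := by
  rw [show 43890 = 2 * (3 * (5 * (7 * (11 * 19)))) from rfl] at d
  simpa only [hp.dvd_mul, Nat.prime_dvd_prime_iff_eq hp Nat.prime_two, Nat.prime_dvd_prime_iff_eq hp Nat.prime_three,
    Nat.prime_dvd_prime_iff_eq hp Nat.prime_five, Nat.prime_dvd_prime_iff_eq hp Nat.prime_seven,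
    Nat.prime_dvd_prime_iff_eq hp Nat.prime_eleven, Nat.prime_dvd_prime_iff_eq hp (by decide : Nat.Prime 19), or_assoc] using d

theorem Jo.prs (O : Jo G) (hp : p.Prime) (d : p ∣ #K) : (p = 2 ∨ p = 3 ∨ p = 5) ∨ Big p :=
  let ⟨g, _, hg⟩ := Cauchy hp d; JJ.prs hp (hg ▸ O.exp g)

theorem Jo.pw (O : Jo G) (hp : p.Prime) (hx : PiElt {p} x) : x ^ p = 1 := by
  obtain ⟨n, hn⟩ := (p_natP hp).1 hx
  have d := O.exp x
  rw [← orderOf_dvd_iff_pow_eq_one, hn] at *
  obtain _ | _ | n := n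
  exacts [one_dvd _, by simp, absurd ((pow_dvd_pow p (Nat.le_add_left 2 n)).trans d) (by
    rcases JJ.prs hp ((dvd_pow_self p (by omega)).trans d) with (rfl | rfl | rfl) | rfl | rfl | rfl <;> decide)]

theorem Jo.ord (O : Jo G) (hp : p.Prime) (hx : PiElt {p} x) (x1 : x ≠ 1) : orderOf x = p := ord_of_pow hp (O.pw hp hx) x1

theorem Jo.abelem (O : Jo G) (h : PiGrp {2} Q) : Abelem 2 Q := by
  have k : ∀ x ∈ Q, x⁻¹ = x := fun x hx => inv_eq_of_mul_eq_one_right (pow_two x ▸ O.pw Nat.prime_two (mem_p_elt h hx))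
  exact ⟨abelian_of_cent (le_cent_iff.2 fun a ha b hb => by rw [← k _ (mul_mem ha hb), mul_inv_rev, k a ha, k b hb]),
    fun x hx => O.pw Nat.prime_two (mem_p_elt h hx)⟩

theorem Jo.tri (O : Jo G) (oa : orderOf a = p) (ob : orderOf b = q) (oc : orderOf c = r) (ab : Commute a b)
    (ac : Commute a c) (bc : Commute b c) (h : B3 p q r) : False := by
  subst oa ob oc
  have e := ab.orderOf_mul_eq_mul_orderOf_of_coprime h.1
  exact O.no h.2.2 (g := a * b * c) (by rw [(ac.mul_left bc).orderOf_mul_eq_mul_orderOf_of_coprime (e ▸ h.2.1), e])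

theorem Big.prime (h : Big s) : s.Prime := by rcases h with rfl | rfl | rfl <;> decide

theorem map_top [IsSimpleGroup S] (hA : A ⊴ B) (hB : B.map f = ⊤) (ne : A.map f ≠ ⊥) : A.map f = ⊤ :=
  (NormalIn.normal (hB ▸ normal_map f hA)).eq_bot_or_eq_top.resolve_left ne

theorem JD.elt (D : JD S) (hA : A.map f = ⊤) (hp : p.Prime) (d : p ∣ 175560) : ∃ x ∈ A, orderOf x = p :=
  Cauchy hp (d.trans (D.card ▸ card_top (G := S) ▸ hA ▸ card_map_dvd A f))

theorem JD.der (D : JD S) : ⁅(⊤ : Subgroup S), (⊤ : Subgroup S)⁆ = ⊤ :=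
  have := D.simple
  (NormalIn.normal (der_normal ⊤)).eq_bot_or_eq_top.resolve_left fun e =>
    let ⟨E, t, _, _, _, h⟩ := D.bor
    h (mem_cent.2 fun a _ => IsMulCommutative.comm (der1_eq_bot.1 e) (mem_top a) (mem_top t))

theorem JD.act7 (D : JD S) : Act 7 S := let ⟨E, t, h⟩ := D.bor; ⟨2, E, t, Nat.prime_two, by decide, h⟩

theorem covj [IsSimpleGroup S] (h : Cx C f) (O : Jo G) (hp : p.Prime) (A : Act p S) (nW : W ⊴ C) (hW : PiGrp {p} W)
    (Wk : W ≤ f.ker) : (C ⊓ C[W]).map f = ⊤ := by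
  obtain ⟨q, Q, y, hq, qp, hQ, o, yN, yC⟩ := A
  have := nW.subgroupOf
  have := Fact.mk hq
  have k := SzSq.cov h.surj h.ker hp (pgroup_subgroupOf C hW) (fun x hx => Wk hx) (e := 0)
    (fun x hx => by simpa using (O.sub C).pw hp hx) (fun k k1 k2 ⟨t, m, ht, m1, e, Q', hQ', nc⟩ => by
      obtain rfl : k = 1 := by omega
      obtain rfl : t = 2 := by
        rcases hp.eq_two_or_odd' with rfl | o
        · exact absurd (Nat.pow_eq_one.1 e.symm) (by have := ht.one_lt; omega)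
        exact ((Nat.prime_dvd_prime_iff_eq Nat.prime_two ht).1 (Nat.prime_two.dvd_of_dvd_pow
          (e ▸ (pow_one p).symm ▸ (Nat.Odd.sub_odd o odd_one).two_dvd))).symm
      exact nc ((O.sub C).abelem (IsPGroup.pi hQ')).1) (X := Q ⊔ zpowers y)
    (solvableY (.inr (zpowers_le.2 yN)) (isSolvable_of_isPGroup hQ.pg) (abelian_sol (abelian_zpowers y)))
    (mem_sup_right (mem_zpowers y)) (pe_ord hp o) fun N hN pN hy => yC (normal_pi_cent hN
      ⟨le_sup_left, sup_le (normG Q) (zpowers_le.2 yN)⟩ pN (pi_ne hQ qp) (by simpa using hy))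
  refine map_top nW.cent h.top fun e => k (le_bot_iff.1 (inf_le_left.trans (e ▸ ?_)))
  rintro _ ⟨x, hx, rfl⟩
  exact mem_map_of_mem f ⟨x.2, mem_cent.2 fun w hw => congrArg Subtype.val (mem_cent.1 hx ⟨w, nW.le hw⟩ hw)⟩

theorem fixj (h : Cx C f) (D : JD S) (O : Jo G) (nW : W ⊴ C) (W0 : W ≠ ⊥) (hq : q.Prime) (hW : PiGrp {q} W)
    (q2 : q ≠ 2) (q7 : q ≠ 7) : ∃ x ∈ C, orderOf x = 7 ∧ Fx W x := by
  obtain ⟨E, t, hE, o, tN, tC⟩ := D.bor
  have := D.simple
  have := Fact.mk hq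
  obtain ⟨P, PC, hP, eP, x, hx, xP, rfl, px⟩ := lift_bor h.top Nat.prime_seven hE tN o
  have ox := O.ord Nat.prime_seven px fun e => ne1 Nat.prime_seven o (by rw [e, map_one])
  by_cases fx : Fx W x
  · exact ⟨x, hx, ox, fx⟩
  have := t2 Nat.prime_seven Nat.prime_two ox (by decide) (fun _ k e => by
    obtain _ | _ | _ | k := k <;> omega) hP xP (isSolvable_of_isPGroup hW.pg) (PC.trans nW.norm) (nW.norm hx)
      (pi_ne hW q2) (pi_ne hW q7) fx
  obtain ⟨y, hy, oy⟩ := ord_of_top (map_top nW.cent h.top fun e => tC (commG1'.1 (le_bot_iff.1 (by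
    rw [← eP, ← MonoidHom.map_zpowers, ← map_commutator, ← e]
    exact map_mono (le_inf (comm_subG PC (zpowers_le.2 hx)) this))) (mem_zpowers _))) Nat.prime_seven o
  exact ⟨y, hy.1, oy, fx_of_cent W0 hy.2⟩

theorem nobig (h : Cx C f) (D : JD S) (O : Jo G) (oz : orderOf z = 2) (zc : C ≤ C1[z]) (hs : Big s) :
    ¬ s ∣ #(C ⊓ f.ker : Subgroup G) := fun d => by
  have := Fact.mk hs.prime
  have := D.simple
  obtain ⟨P, hP⟩ := Sylow_exists s (C ⊓ f.ker)
  have fr := congrArg (Subgroup.map f) (Frattini_arg (normalGI le_top (normal_top _)) hP)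
  rw [Subgroup.map_sup, h.top, (Subgroup.map_eq_bot_iff (C ⊓ f.ker)).2 inf_le_right, bot_sup_eq] at fr
  have h1 := h.sub inf_le_left fr
  have nP : P ⊴ C ⊓ N[P] := ⟨le_inf (hP.le.trans inf_le_left) (normG P), inf_le_right⟩
  have zc' : ∀ {x}, x ∈ C → Commute z x := fun hx => (mem_cent1.1 (zc hx)).symm
  by_cases s7 : s = 7
  · subst s7
    obtain ⟨y, hy, oy⟩ := D.elt (covj h1 O hs.prime D.act7 nP hP.pi (hP.le.trans inf_le_right)) Nat.prime_eleven (by decide)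
    obtain ⟨w, hw, ow⟩ := exists_ord hs.prime hP.pi (Sylow_ne_bot hP d)
    exact O.tri oz ow oy (zc' (hP.le hw).1) (zc' hy.1.1) (mem_cent.1 hy.2 w hw) (by decide)
  obtain ⟨x, hx, ox, w, hw, w1, c⟩ := fixj h1 D O nP (Sylow_ne_bot hP d) hs.prime hP.pi
    (by rcases hs with rfl | rfl | rfl <;> decide) s7
  exact O.tri oz ox (O.ord hs.prime (mem_p_elt hP.pi hw) w1) (zc' hx.1) (zc' (hP.le hw).1) c
    (by rcases hs with rfl | rfl | rfl <;> first | decide | exact absurd rfl s7)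

theorem a0 (h : Cx ⊤ f) (D : JD S) (O : Jo G) (h0 : Op' 2 f.ker = ⊥) : ∃ R : Subgroup G, R.map f = ⊤ ∧ R ≤ C[f.ker] := by
  have nQ := (normal_top f.ker).pcore {2}
  have := D.simple
  have c := covj h O Nat.prime_two (D.act 2 (.inl rfl)) nQ (pcore_pgroup _ _) (pcore_sub _ _)
  rw [top_inf_eq] at c
  have l : ⁅f.ker, C[Op 2 f.ker]⁆ ≤ Op 2 f.ker := (commg_subI (le_top.trans (norms_cent nQ.norm))
    (norm_of_normal _ _)).trans ((cent_sub_Fitting h.solk |> fun e => by rwa [Fitting_eq_pcore h0] at e))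
  have e := commG1'.2 (centsS l le_rfl)
  exact ⟨_, by rw [map_commutator, c, D.der], commG1.1 (three_subgroup (by rw [commGC C[Op 2 f.ker] f.ker]; exact e) e)⟩

theorem a1 (h : Cx ⊤ f) (D : JD S) (O : Jo G) (hz : z ∈ f.ker) (zz : z * z = 1) : C1[z].map f = ⊤ := by
  have := ((normal_top f.ker).pcore {2}ᶜ).normal
  have sj := QuotientGroup.mk'_surjective (Op' 2 f.ker)
  obtain ⟨h1, h2, -⟩ := h.quot (pcore_sub {2}ᶜ f.ker)
  obtain ⟨R, hR, cR⟩ := a0 h1 D (O.surj _ sj) (by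
    have n := ((normal_top _).pcore {2}ᶜ : Op' 2 (QuotientGroup.lift _ f (pcore_sub {2}ᶜ f.ker)).ker ⊴ ⊤).normal
    have l := pcore_sub {2}ᶜ (QuotientGroup.lift _ f (pcore_sub {2}ᶜ f.ker)).ker
    have pN := pcore_pgroup {2}ᶜ (QuotientGroup.lift _ f (pcore_sub {2}ᶜ f.ker)).ker
    change piCoreOf {2}ᶜ _ = ⊥
    change (piCoreOf {2}ᶜ _).Normal at n
    generalize piCoreOf {2}ᶜ (QuotientGroup.lift _ f (pcore_sub {2}ᶜ f.ker)).ker = M at *
    have l1 : Op' 2 f.ker ≤ M.comap (QuotientGroup.mk' _) := (QuotientGroup.ker_mk' _).ge.trans (ker_le_comap _ _)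
    rw [← map_comap_eq_self_of_surjective sj M, Subgroup.map_eq_bot_iff, QuotientGroup.ker_mk']
    refine pcore_max ⟨fun x hx => l hx, norm_of_normal _ _⟩ (pgroup_of_idx l1 (pcore_pgroup _ _) ?_)
    conv => enter [2, 1]; rw [← QuotientGroup.ker_mk' (Op' 2 f.ker)]
    rwa [relIndex_ker, map_comap_eq_self_of_surjective sj])
  rw [h2] at cR
  refine top_le_iff.1 fun y _ => ?_
  obtain ⟨r, hr, rfl⟩ : y ∈ R.map _ := hR ▸ mem_top y
  obtain ⟨r, rfl⟩ := sj r
  obtain ⟨j, hj, e⟩ := cj_odd (g := r) zz (pnat_odd.1 (pcore_pgroup _ f.ker)) (by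
    rw [← QuotientGroup.eq_one_iff, ← QuotientGroup.mk'_apply]
    simp only [map_mul, map_inv]
    rw [conj_eq_of_cent (cR hr) (mem_map_of_mem _ hz), ← map_mul, zz, map_one])
  exact ⟨_, e, by rw [map_mul, map_inv, MonoidHom.mem_ker.1 (pcore_sub _ _ hj), inv_one, one_mul]; rfl⟩

theorem sq2 (o : orderOf z = 2) : z * z = 1 := by rw [← pow_two, ← o, pow_orderOf_eq_one]

/-- no big prime divides the centralizer in the kernel of an involution of the kernel -/
theorem nbz (h : Cx C f) (D : JD S) (O : Jo G) (hz : z ∈ C) (hk : z ∈ f.ker) (o : orderOf z = 2) (hs : Big s)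
    (l : A ≤ C ⊓ f.ker) : ¬ s ∣ #(A ⊓ C1[z] : Subgroup G) := fun d => by
  refine nobig (h.sub inf_le_left (top_le_iff.1 fun y _ => ?_)) D O o (inf_le_right (b := C1[z])) hs
    (d.trans (cardSg (le_inf (inf_le_inf_right _ (l.trans inf_le_left)) (inf_le_left.trans (l.trans inf_le_right)))))
  obtain ⟨x, hx, rfl⟩ : y ∈ map _ _ := a1 (cx_top h.surj h.ker) D (O.sub C) (z := (⟨z, hz⟩ : C)) hk (Subtype.ext (sq2 o)) ▸ mem_top y
  exact mem_map_of_mem f ⟨x.2, mem_cent1.2 (congrArg Subtype.val (mem_cent1.1 hx))⟩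

theorem noZ (O : Jo G) (d : 8 ∣ Nat.card G) (nW : W ⊴ ⊤) (nW' : W' ⊴ ⊤) (hp : Big p) (hq : Big q) (pq : p ≠ q)
    (pW : PiGrp {p} W) (pW' : PiGrp {q} W') (W0 : W ≠ ⊥) (W0' : W' ≠ ⊥) : False := by
  obtain ⟨E, hE⟩ := Sylow_exists 2 (⊤ : Subgroup G)
  have aE := O.abelem hE.pi
  have n2 : ∀ {p}, Big p → p ≠ 2 := fun h => by omega
  refine W0 (le_bot_iff.1 (coprime_abelian_gen_cent aE.1 (le_top.trans nW.norm) (cop hE.pi pW (n2 hp))
    fun B hB c => le_bot_iff.2 (by_contra fun e => ?_)))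
  obtain ⟨w, hw, ow⟩ := exists_ord hp.prime (pgroupS inf_le_left pW) e
  obtain ⟨u, hu, u1, v, hv, v1, c'⟩ := efix (abelianS hB aE.1) (fun c' => by
    have h1 := mul_dvd_mul (cyclic_abelem_card_dvd (O.abelem (pgroupS hB hE.pi)) c')
      (cyclic_abelem_card_dvd (quotient_abelem B aE) c)
    rw [card_quotient (sub_abelian_norm aE.1 hB), card_mul_relIndex hB] at h1
    have h2 := (Nat.Coprime.pow_left 3 ((Nat.Prime.coprime_iff_not_dvd Nat.prime_two).2 hE.not_dvd)).dvd_of_dvd_mul_right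
      (card_mul_relIndex hE.le ▸ card_top (G := G) ▸ d)
    exact absurd (h2.trans h1) (by decide)) (le_top.trans nW'.norm) (cop (pgroupS hB hE.pi) pW' (n2 hq)) W0'
  exact O.tri (O.ord Nat.prime_two (mem_p_elt hE.pi (hB hu)) u1) ow (O.ord hq.prime (mem_p_elt pW' hv) v1)
    (mem_cent.1 hw.2 u hu) c' (le_cent_iff.1 (normal_pi_cent nW nW' pW (pi_ne pW' pq.symm)) w hw.1 v hv)
    (by rcases hp with rfl | rfl | rfl <;> rcases hq with rfl | rfl | rfl <;> first | decide | exact absurd rfl pq)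

theorem z2 (h : Cx ⊤ f) (D : JD S) (O : Jo G) (hp : Big p) (hq : Big q) (pq : p ≠ q) (d2 : 2 ∣ #f.ker) (d3 : p ∣ #f.ker)
    (d4 : q ∣ #f.ker) (H : ∀ z ∈ f.ker, orderOf z = 2 → ¬ Fx (fittingOf (Op' 2 f.ker)) z) : False := by
  have sK := h.solk
  have nJ := (normal_top f.ker).pcore {2}ᶜ
  have sJ : Group.IsSolvable (Op' 2 f.ker) := Solv.isSolvable_of_le (pcore_sub _ _)
  have nb : ∀ {z s}, z ∈ f.ker → orderOf z = 2 → Big s → ¬ s ∣ #(f.ker ⊓ C1[z] : Subgroup G) := fun hz o hs =>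
    nbz h D O (mem_top _) hz o hs (le_inf le_top le_rfl)
  by_cases J0 : Op' 2 f.ker = ⊥
  · obtain ⟨R, hR, cR⟩ := a0 h D O J0
    obtain ⟨x, hx, ox⟩ := D.elt hR Nat.prime_two (by decide)
    have k : ∀ {s}, Big s → ∀ g ∈ f.ker, orderOf g ≠ 2 * s := fun hs g hg e =>
      let ⟨a, ha, b, hb, oa, ob, c⟩ := adj_of Nat.prime_two hs.prime hg e
      nb ha oa hs (ob ▸ orderOf_dvd_cardG ⟨hb, mem_cent1.2 c.symm⟩)
    have k' : ∀ {s t}, Big s → Big t → s ≠ t → ∀ g ∈ f.ker, orderOf g ≠ s * t := fun hs ht st g hg e =>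
      let ⟨a, ha, b, hb, oa, ob, c⟩ := adj_of hs.prime ht.prime hg e
      O.tri ox oa ob (mem_cent.1 (cR hx) a ha).symm (mem_cent.1 (cR hx) b hb).symm c
        (by rcases hs with rfl | rfl | rfl <;> rcases ht with rfl | rfl | rfl <;> first | decide | exact absurd rfl st)
    refine FG.not_sol_of_coclique (s := {2, p, q}) (Finset.card_eq_three.2 ⟨2, p, q, by omega, by omega, pq, rfl⟩).ge ?_ ?_ sK <;>
      simp only [Finset.mem_insert, Finset.mem_singleton]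
    · rintro _ (rfl | rfl | rfl)
      exacts [⟨Nat.prime_two, d2⟩, ⟨hp.prime, d3⟩, ⟨hq.prime, d4⟩]
    rintro _ (rfl | rfl | rfl) _ (rfl | rfl | rfl) e
    exacts [absurd rfl e, k hp, k hq, mul_comm 2 _ ▸ k hp, absurd rfl e, k' hp hq e, mul_comm 2 _ ▸ k hq, k' hq hp e, absurd rfl e]
  have nA := nJ.Fitting
  have A0 : fittingOf (Op' 2 f.ker) ≠ ⊥ := fun e => J0 (by simpa [e, cent_bot] using cent_sub_Fitting sJ)
  have oJ := pnat_odd.1 (pcore_pgroup {2}ᶜ f.ker)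
  have cA : f.ker ⊓ C[fittingOf (Op' 2 f.ker)] ≤ fittingOf (Op' 2 f.ker) := (le_inf (pcore_max
    (subcent_normal (le_top.trans nA.norm)) ((p'natE Nat.prime_two).2 fun d =>
      let ⟨z, hz, o⟩ := Cauchy Nat.prime_two d
      H z hz.1 o (fx_of_cent A0 hz.2))) inf_le_right).trans (cent_sub_Fitting sJ)
  obtain ⟨z, hz, o⟩ := Cauchy Nat.prime_two d2
  have zz := sq2 o
  have l : f.ker ≤ fittingOf (Op' 2 f.ker) ⊔ (f.ker ⊓ C1[z]) := fun g hg => by
    have m := inv_mem (cA ⟨comm_subG le_rfl le_rfl (commutator_mem_commutator hg hz),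
      invc zz (inv_of zz (nA.norm trivial) (H z hz o)) (nA.norm trivial)⟩)
    obtain ⟨j, hj, e⟩ := cj_odd (g := g) zz (oddSg (Fitting_sub _) oJ) (by
      rwa [commutatorElement_inv, commutatorElement_def, inv_eq_of_mul_eq_one_right zz, mul_assoc, mul_assoc,
        ← mul_assoc g] at m)
    rw [← mul_inv_cancel_left j g]
    exact mul_mem_sup' hj ⟨f.ker.mul_mem (f.ker.inv_mem (pcore_sub _ _ (Fitting_sub _ hj))) hg, e⟩
  have key : ∀ {p}, Big p → p ∣ #f.ker → Op p (Op' 2 f.ker) ≠ ⊥ := fun {p} hp d =>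
    have := Fact.mk hp.prime
    Sylow_ne_bot (Sylow_Fitting p _) ((hp.prime.dvd_mul.1 ((d.trans (cardSg l)).trans
      (card_sup_dvd (.inr (le_top.trans nA.norm))))).resolve_right (nb hz o hp))
  exact noZ O ((by rw [D.card]; decide : 8 ∣ Nat.card S).trans (card_dvd_of_surjective f fun y => by
    obtain ⟨x, -, rfl⟩ : y ∈ map f ⊤ := h.top ▸ mem_top y
    exact ⟨x, rfl⟩)) (nJ.pcore _) (nJ.pcore _) hp hq pq (pcore_pgroup _ _) (pcore_pgroup _ _) (key hp d3) (key hq d4)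

theorem no2 (D : JD S) (hp : Big p) (hq : Big q) (pq : p ≠ q) (n : ℕ) : ∀ {G : Type u} [Group G] [Finite G] {f : G →* S},
    #f.ker = n → Cx ⊤ f → Jo G → 2 ∣ #f.ker → p ∣ #f.ker → q ∣ #f.ker → False := by
  induction n using Nat.strong_induction_on with | _ n ih => ?_
  intro G _ _ f hn h O d2 d3 d4
  by_cases h0 : piCoreOf {3, 5} f.ker = ⊥
  · refine z2 h D O hp hq pq d2 d3 d4 fun z hz o ⟨v, hv, v1, c⟩ => ?_
    obtain ⟨t, ht, d, -⟩ := exists_pp v1
    have := Fact.mk ht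
    have d' := d.trans (orderOf_dvd_cardG (A := Op' 2 f.ker ⊓ C1[z]) ⟨Fitting_sub _ hv, mem_cent1.2 c.symm⟩)
    refine Sylow_ne_bot (Sylow_Fitting t _) (d.trans (orderOf_dvd_cardG hv)) (le_bot_iff.1 (h0 ▸ pcore_max
      ((pcore_normal _ _).pcore _) (pi_pnat (pcore_pgroup _ _) ?_)))
    exact ((O.prs ht d').resolve_right fun hs => nbz h D O (mem_top _) hz o hs (le_inf le_top (pcore_sub _ _)) d').resolve_left
      (pcore_pgroup {2}ᶜ f.ker t ht (d'.trans (cardSg inf_le_left)))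
  have := ((normal_top f.ker).pcore {3, 5}).normal
  obtain ⟨h1, -, h3⟩ := h.quot (pcore_sub {3, 5} f.ker)
  have k : ∀ {p}, p.Prime → p = 2 ∨ Big p → p ∣ #f.ker → p ∣ #(QuotientGroup.lift _ f (pcore_sub {3, 5} f.ker)).ker :=
    fun hp e d' => (hp.dvd_mul.1 (h3 ▸ d')).resolve_left ((pcore_pgroup _ _).not_dvd hp (by simp; omega))
  exact ih _ (hn ▸ h3 ▸ lt_mul_of_one_lt_left (cardG_pos _) (cardG_gt1 h0)) rfl h1
    (O.surj _ (QuotientGroup.mk'_surjective _)) (k Nat.prime_two (.inl rfl) d2) (k hp.prime (.inr hp) d3) (k hq.prime (.inr hq) d4)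

theorem pw_ord (h : orderOf g = p * q) : orderOf (g ^ q) = p ∧ orderOf (g ^ p) = q := by
  have h0 := (orderOf_pos g).ne'
  have p0 : p ≠ 0 := fun e => h0 (by rw [h, e, zero_mul])
  have q0 : q ≠ 0 := fun e => h0 (by rw [h, e, mul_zero])
  rw [orderOf_pow_of_dvd q0 (h ▸ dvd_mul_left q p), orderOf_pow_of_dvd p0 (h ▸ dvd_mul_right p q), h,
    Nat.mul_div_cancel _ (Nat.pos_of_ne_zero q0), Nat.mul_div_cancel_left _ (Nat.pos_of_ne_zero p0)]
  exact ⟨rfl, rfl⟩

theorem onej (D : JD S) (O : Jo G) (E : ∀ n, ¬ Bad n → ∃ g : G, orderOf g = n) (hf : Function.Surjective f)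
    (sK : Group.IsSolvable f.ker) : False := by
  have no : ∀ {n} {y : S}, (∀ a ∈ [6, 10, 15, 7, 11, 19], ¬ n ∣ a) → orderOf y ≠ n := fun {n y} h e =>
    let ⟨a, ha, d⟩ := D.ord y; h a ha (e ▸ d)
  rcases Nat.even_or_odd #f.ker with eK | oK
  · have k : ∀ {s t}, Big s → Big t → s ≠ t → s ∣ #f.ker ∨ t ∣ #f.ker := fun {s t} hs ht st => by
      obtain ⟨g, hg⟩ := E (s * t) (by
        rcases hs with rfl | rfl | rfl <;> rcases ht with rfl | rfl | rfl <;> first | decide | exact absurd rfl st)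
      by_contra! H
      refine no ?_ ((ord_map (f := f) fun p hp d => ?_).trans hg)
      · rcases hs with rfl | rfl | rfl <;> rcases ht with rfl | rfl | rfl <;> first | decide | exact absurd rfl st
      rcases hp.dvd_mul.1 (hg ▸ d) with d | d
      exacts [(Nat.prime_dvd_prime_iff_eq hp hs.prime).1 d ▸ H.1, (Nat.prime_dvd_prime_iff_eq hp ht.prime).1 d ▸ H.2]
    have k' := fun {s t} hs ht st => no2 D (p := s) (q := t) hs ht st _ rfl (cx_top hf sK) O eK.two_dvd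
    rcases k (s := 7) (t := 11) (by decide) (by decide) (by decide) with a | a <;>
      rcases k (s := 7) (t := 19) (by decide) (by decide) (by decide) with b | b <;>
      rcases k (s := 11) (t := 19) (by decide) (by decide) (by decide) with c | c <;>
      first | exact k' (by decide) (by decide) (by decide) a b | exact k' (by decide) (by decide) (by decide) a c
  obtain ⟨z, oz⟩ := E 2 (by decide)
  have nk : ∀ {u : G}, orderOf u = 2 → orderOf (f u) = 2 := fun o => (ord_map fun p hp d =>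
    (Nat.prime_dvd_prime_iff_eq hp Nat.prime_two).1 (o ▸ d) ▸ oK.not_two_dvd_nat).trans o
  refine FG.not_sol_of_coclique (M := f.ker ⊓ C1[z]) (s := {7, 11, 19}) (by decide) (fun s hs => ?_)
    (fun s hs t ht st g hg e => ?_) (Solv.isSolvable_of_le inf_le_left)
  swap
  · simp only [Finset.mem_insert, Finset.mem_singleton] at hs ht
    have c : Commute z g := (mem_cent1.1 hg.2).symm
    exact O.tri oz (pw_ord e).1 (pw_ord e).2 (c.pow_right _) (c.pow_right _) (Commute.pow_pow_self _ _ _)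
      (by rcases hs with rfl | rfl | rfl <;> rcases ht with rfl | rfl | rfl <;> first | decide | exact absurd rfl st)
  simp only [Finset.mem_insert, Finset.mem_singleton] at hs
  obtain ⟨g, hg⟩ := E (2 * s) (by rcases hs with rfl | rfl | rfl <;> decide)
  obtain ⟨ou, ox⟩ := pw_ord hg
  have c := Commute.pow_pow_self g s 2
  generalize g ^ s = u at ou c
  generalize g ^ 2 = x at ox c
  have hx : x ∈ f.ker := by_contra fun e => by
    have o := ord_of_pow (Big.prime hs) (by rw [← map_pow, ← ox, pow_orderOf_eq_one, map_one]) e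
    refine no (n := 2 * s) ?_ (((c.map f).orderOf_mul_eq_mul_orderOf_of_coprime ?_).trans (by rw [nk ou, o]))
    · rcases hs with rfl | rfl | rfl <;> decide
    · rw [nk ou, o]; rcases hs with rfl | rfl | rfl <;> decide
  obtain ⟨g, hg⟩ := isConj_iff.1 (D.cls _ _ (nk oz) (nk ou))
  obtain ⟨g, rfl⟩ := hf g
  obtain ⟨k, hk⟩ := Invol.exists_conj_of_odd (sq2 ou) (y := g * z * g⁻¹) (by rw [conj_mul, sq2 oz]; group)
    (oK.of_dvd_nat (orderOf_dvd_cardG (MonoidHom.mem_ker.2 (by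
      simp only [map_mul, map_inv]; rw [hg, ← map_mul, sq2 ou, map_one]))))
  generalize (u * (g * z * g⁻¹)) ^ k = y at hk
  refine ⟨Big.prime hs, (dvd_of_eq ((orderOf_conj' (g⁻¹ * y) x).trans ox).symm).trans (orderOf_dvd_cardG
    ⟨(inferInstance : f.ker.Normal).conj_mem x hx _, mem_cent1.2 ?_⟩)⟩
  rw [show z = g⁻¹ * y * u * (g⁻¹ * y)⁻¹ by rw [mul_assoc g⁻¹, mul_inv_rev, ← mul_assoc, mul_assoc g⁻¹, hk]; group,
    conj_mul, conj_mul, c]

theorem alpha [C.Normal] (h : Cx C f) (D : JD S) (O : Jo G) (h4 : 4 ∣ (C ⊓ f.ker).relIndex f.ker) (hs : Big s) :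
    ¬ s ∣ #(C ⊓ f.ker : Subgroup G) := fun d => by
  have := Fact.mk hs.prime
  have s2 : s ≠ 2 := by omega
  obtain ⟨T, hT⟩ := Sylow_exists 2 f.ker
  have aT := O.abelem hT.pi
  have sD : Group.IsSolvable (C ⊓ f.ker ⊔ T : Subgroup G) :=
    solvableY (.inr (norm_of_normal _ _)) h.sol (abelian_sol aT.1)
  have hD : Cx (C ⊔ T) f := ⟨top_le_iff.1 (h.top.ge.trans (map_mono le_sup_left)), by
    rwa [inf_comm, group_modr (.inr (norm_of_normal _ _)) hT.le, inf_comm]⟩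
  have nb : ∀ u ∈ T, u ≠ 1 → ∀ a ∈ C ⊓ f.ker, a ≠ 1 → PiElt {s} a → ¬ Commute u a := fun u hu u1 a ha a1 pa c =>
    nbz hD D O (mem_sup_right hu) (hT.le hu) (O.ord Nat.prime_two (mem_p_elt hT.pi hu) u1) hs
      (inf_le_inf_right _ le_sup_left) (O.ord hs.prime pa a1 ▸ orderOf_dvd_cardG ⟨ha, mem_cent1.2 c.symm⟩)
  have pK : ∀ a ∈ C ⊓ f.ker ⊔ T, PiElt {s} a → a ∈ C ⊓ f.ker := fun a ha pa => by
    obtain ⟨P, hP⟩ := Sylow_exists s (C ⊓ f.ker)
    have hP' : SylowIn s P (C ⊓ f.ker ⊔ T) := ⟨hP.le.trans le_sup_left, hP.pi, by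
      rw [← relIndex_mul_relIndex _ _ _ hP.le le_sup_left, relIndex_sup_left]
      exact fun p hp m d => PiNat.mul hP.idx ((pi_ne hT.pi s2.symm).of_dvd (relIndex_dvd_card _ _)) p hp d m⟩
    obtain ⟨g, hg, l⟩ := Sylow_Jsub hP' (zpowers_le.2 ha) (p_elt_zpowers.2 pa).pg
    simpa using (Normal.mem_comm_iff inferInstance).1 (hP.le (l (conj_mem_cj g (mem_zpowers a))))
  obtain ⟨H, hH, TH⟩ := Hall_superset (π := {2, s}) sD le_sup_right (pi_pnat hT.pi (by simp))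
  by_cases h0 : Op' 2 H = ⊥
  · have l : T ≤ Op 2 H := Fitting_eq_pcore h0 ▸ (le_inf TH (by
      rw [Fitting_eq_pcore h0]
      exact sub_abelian_cent aT.1 (pcore_sub_Hall (pHall_subl TH (hH.le.trans (sup_le inf_le_right hT.le)) hT)))).trans
        (cent_sub_Fitting (solvableS hH.le sD))
    have e : T = Op 2 H := le_antisymm l (pcore_sub_Hall (pHall_subl TH (hH.le.trans (sup_le inf_le_right hT.le)) hT))
    obtain ⟨a, ha, oa⟩ := Cauchy hs.prime (Hall_dvd hH hs.prime (by simp) (d.trans (cardSg le_sup_left)))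
    have aK := pK a (hH.le ha) (pe_ord hs.prime oa)
    have e1 := coprime_commg_eq_of_regular (P := zpowers a) (Q := T) (zpowers_le.2 (e ▸ (pcore_normal _ H).norm ha))
      (cop (pi_zp hs.prime oa) hT.pi s2.symm) (abelian_sol aT.1) (eq_bot_iff.2 fun u hu => by_contra fun u1 =>
        nb u hu.1 u1 a aK (ne1 hs.prime oa) (pe_ord hs.prime oa) (mem_cent.1 hu.2 a (mem_zpowers a)).symm)
    exact hT.not_dvd (((by decide : 2 ∣ 4).trans h4).trans (relIndex_dvd_of_le_left _ (e1 ▸ (commutator_mono le_top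
      (zpowers_le.2 aK)).trans (commutator_le_right _ _))))
  have pO : PiGrp {s} (Op' 2 H) := fun t ht d =>
    (hH.pi t ht (d.trans (cardSg (pcore_sub _ _)))).resolve_left (pcore_pgroup _ _ t ht d)
  obtain ⟨u, hu, u1, v, hv, v1, c⟩ := efix aT.1 (fun c => absurd (((Nat.Coprime.pow_left 2
    ((Nat.Prime.coprime_iff_not_dvd Nat.prime_two).2 hT.not_dvd)).dvd_of_dvd_mul_right (card_mul_relIndex hT.le ▸
      h4.trans (relIndex_dvd_card _ _))).trans (cyclic_abelem_card_dvd aT c)) (by decide))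
    (TH.trans (pcore_normal _ H).norm) (cop hT.pi pO s2) h0
  exact nb u hu u1 v (pK v (hH.le (pcore_sub _ _ hv)) (mem_p_elt pO hv)) v1 (mem_p_elt pO hv) c

theorem twoj {T : Type*} [Group T] [Finite T] {f₁ : G →* S} {f₂ : G →* T} (D : JD S) (D' : JD T) (O : Jo G)
    (h1 : Cx f₂.ker f₁) (h2 : Cx f₁.ker f₂) : f₁.ker ⊓ f₂.ker = ⊥ := by_contra fun K0 => by
  have := D.simple
  have := D'.simple
  obtain ⟨W, mW, WK⟩ := minnormal_exists K0 (norm_of_normal _ ⊤)
  obtain ⟨t, ht, aW⟩ := minnormal_solvable mW WK h2.sol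
  have := Fact.mk ht
  have d := (pgroup_pdiv aW.pg mW.ne).trans (cardSg WK)
  have h3 := (O.prs ht d).resolve_right fun hs => alpha h1 D O (by
    rw [inf_relIndex_right, relIndex_ker, h2.top, card_top, D'.card]; decide) hs (inf_comm f₁.ker _ ▸ d)
  obtain ⟨w, hw, ow⟩ := exists_ord ht (IsPGroup.pi aW.pg) mW.ne
  obtain ⟨y, hy⟩ := exists_prime_orderOf_dvd_card' (G := S) 7 (hp := ⟨Nat.prime_seven⟩) (by rw [D.card]; decide)
  obtain ⟨v, hv⟩ := exists_prime_orderOf_dvd_card' (G := T) 11 (hp := ⟨Nat.prime_eleven⟩) (by rw [D'.card]; decide)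
  obtain ⟨g, hg, rfl⟩ : y ∈ map _ _ := covj h1 O ht (D.act t h3) ⟨WK.trans inf_le_right, le_top.trans mW.norm⟩
    (IsPGroup.pi aW.pg) (WK.trans inf_le_left) ▸ mem_top y
  obtain ⟨g', hg', rfl⟩ : v ∈ map _ _ := covj h2 O ht (D'.act t h3) ⟨WK.trans inf_le_left, le_top.trans mW.norm⟩
    (IsPGroup.pi aW.pg) (WK.trans inf_le_right) ▸ mem_top v
  have d1 : 7 ∣ orderOf (g * g') := hy ▸ (by
    rw [← mul_one (f₁ g), ← MonoidHom.mem_ker.1 hg'.1, ← map_mul]; exact orderOf_map_dvd _ _)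
  have d2 : 11 ∣ orderOf (g * g') := hv ▸ (by
    rw [← one_mul (f₂ g'), ← MonoidHom.mem_ker.1 hg.1, ← map_mul]; exact orderOf_map_dvd _ _)
  have c : Commute w (g * g') := mem_cent.1 (C[W].mul_mem hg.2 hg'.2) w hw
  exact O.tri ow (orderOf_pow_orderOf_div (orderOf_pos _).ne' d1) (orderOf_pow_orderOf_div (orderOf_pos _).ne' d2)
    (c.pow_right _) (c.pow_right _) (Commute.pow_pow_self _ _ _) (by rcases h3 with rfl | rfl | rfl <;> decide)

end Cfsg.Agent.JJ
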